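import Mathlib

/-! The largest open of the target over which a target-local property holds. -/

set_option autoImplicit false
universe u
open CategoryTheory CategoryTheory.Limits AlgebraicGeometry TopologicalSpace

namespace Groth.Agent.TargetLocal

variable (Q P : MorphismProperty Scheme.{u}) [P.IsLocalAtTarget (Scheme.precoverage Q)]
variable {X Y : Scheme.{u}} (f : X ⟶ Y)
include Q

/-- `P` holds for the base change of `f` along `j`. -/
abbrev Along {Z : Scheme.{u}} (j : Z ⟶ Y) : Prop := P (pullback.snd f j)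

theorem along_iff {Z A : Scheme.{u}} {a : A ⟶ X} {b : A ⟶ Z} {j : Z ⟶ Y} (h : IsPullback a b f j) :
    P b ↔ Along P f j := by
  have := MorphismProperty.IsLocalAtTarget.toRespects (P := P) (K := Scheme.precoverage Q)
  unfold Along
  rw [← P.cancel_left_of_respectsIso h.isoPullback.inv, h.isoPullback_inv_snd]

theorem restrict_iff (W : Y.Opens) : P (f ∣_ W) ↔ Along P f W.ι :=
  along_iff Q P f (isPullback_morphismRestrict f W).flip

theorem comp_iff {Z Z' : Scheme.{u}} (j : Z ⟶ Y) (k : Z' ⟶ Z) :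
    P (pullback.snd (pullback.snd f j) k) ↔ Along P f (k ≫ j) :=
  along_iff Q P f ((IsPullback.of_hasPullback (pullback.snd f j) k).paste_horiz (IsPullback.of_hasPullback f j))

theorem restrict_comp_iff {Z : Scheme.{u}} (j : Z ⟶ Y) (W : Z.Opens) :
    P (pullback.snd f j ∣_ W) ↔ Along P f (W.ι ≫ j) :=
  along_iff Q P f ((isPullback_morphismRestrict (pullback.snd f j) W).flip.paste_horiz (IsPullback.of_hasPullback f j))

theorem along_comp (hid : ∀ Z : Scheme.{u}, Q (𝟙 Z)) {Z Z' : Scheme.{u}} {j : Z ⟶ Y} (k : Z' ⟶ Z)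
    (hk : Q k) (h : Along P f j) : Along P f (k ≫ j) := by
  rw [← comp_iff Q P f j k]
  let E := (PreZeroHypercover.singleton.{u} k).sum (PreZeroHypercover.singleton.{u} (𝟙 Z))
  have hE : E.presieve₀ ∈ Scheme.precoverage Q Z := by
    rw [Scheme.presieve₀_mem_precoverage_iff]
    exact ⟨fun x => ⟨Sum.inr ⟨⟩, x, rfl⟩, by rintro (_ | _); exacts [hk, hid Z]⟩
  exact MorphismProperty.IsLocalAtTarget.pullbackSnd (P := P) hE
    (Presieve.ofArrows.mk (Y := E.X) (f := E.f) (Sum.inl ⟨⟩)) h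

theorem along_cover {ι : Type u} {Z : Scheme.{u}} {j : Z ⟶ Y} (Zi : ι → Scheme.{u}) (k : ∀ i, Zi i ⟶ Z)
    (hQ : ∀ i, Q (k i)) (hsurj : ∀ x : Z, ∃ i, x ∈ Set.range (k i))
    (h : ∀ i, Along P f (k i ≫ j)) : Along P f j := by
  let E : PreZeroHypercover.{u} Z := ⟨ι, Zi, k⟩
  have hE : E.presieve₀ ∈ Scheme.precoverage Q Z := by
    rw [Scheme.presieve₀_mem_precoverage_iff]
    exact ⟨hsurj, hQ⟩
  refine MorphismProperty.IsLocalAtTarget.of_forall_pullbackSnd (P := P) hE fun {U g} _ hg => ?_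
  cases hg with | mk i => exact (comp_iff Q P f j (k i)).mpr (h i)

/-- The largest open of the target over which `P` holds, with its base change behaviour. -/
theorem exists_largest (hid : ∀ Z : Scheme.{u}, Q (𝟙 Z))
    (hopen : ∀ {A B : Scheme.{u}} (j : A ⟶ B) [IsOpenImmersion j], Q j)
    (hcomp : ∀ {A B C : Scheme.{u}} (j : A ⟶ B) (k : B ⟶ C), Q j → Q k → Q (j ≫ k))
    (hres : ∀ {A B : Scheme.{u}} (g : A ⟶ B) (O : B.Opens) (V : A.Opens) (e : V ≤ g ⁻¹ᵁ O), Q g → Q (g.resLE O V e))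
    (hop : ∀ {A B : Scheme.{u}} (g : A ⟶ B), Q g → IsOpenMap g) :
    ∃ W : Y.Opens, P (f ∣_ W) ∧ (∀ W₀ : Y.Opens, P (f ∣_ W₀) → W₀ ≤ W) ∧
      (∀ (Y' : Scheme.{u}) (g : Y' ⟶ Y), Q g →
        P (pullback.snd f g) → Set.range g.base ⊆ (W : Set Y)) ∧
      (∀ (Y' : Scheme.{u}) (g : Y' ⟶ Y), Q g →
        ∀ W' : Y'.Opens, P (pullback.snd f g ∣_ W') → (∀ W₀ : Y'.Opens, P (pullback.snd f g ∣_ W₀) → W₀ ≤ W') →
          W' = g ⁻¹ᵁ W) := by
  let W : Y.Opens := sSup {W | Along P f W.ι}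
  have hW : Along P f W.ι := by
    refine along_cover Q P f (ι := {O : Y.Opens // Along P f O.ι}) (fun O => (O.1 : Scheme.{u}))
      (fun O => Y.homOfLE (le_sSup O.2)) (fun O => hopen _) (fun x => ?_) fun O => ?_
    · obtain ⟨O, hO, hx⟩ := Opens.mem_sSup.mp x.2
      exact ⟨⟨O, hO⟩, ⟨x.1, hx⟩, Subtype.ext (by simp)⟩
    · rw [Scheme.homOfLE_ι]; exact O.2
  have hrange : ∀ (Y' : Scheme.{u}) (g : Y' ⟶ Y), Q g → Along P f g → Set.range g.base ⊆ (W : Set Y) := by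
    intro Y' g hg h
    let O : Y.Opens := ⟨Set.range g, (hop g hg).isOpen_range⟩
    have e : (⊤ : Y'.Opens) ≤ g ⁻¹ᵁ O := fun x _ => ⟨x, rfl⟩
    have hO : Along P f O.ι := by
      refine along_cover Q P f (ι := PUnit) (fun _ => ((⊤ : Y'.Opens) : Scheme.{u})) (fun _ => g.resLE O ⊤ e)
        (fun _ => hres g O ⊤ e hg) (fun x => ?_) fun _ => ?_
      · obtain ⟨v, hvx⟩ := x.2
        refine ⟨⟨⟩, ⟨v, trivial⟩, Subtype.ext ?_⟩
        show O.ι (g.resLE O ⊤ e ⟨v, trivial⟩) = x.1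
        rw [← Scheme.Hom.comp_apply, Scheme.Hom.resLE_comp_ι]
        exact hvx
      · rw [Scheme.Hom.resLE_comp_ι]
        exact along_comp Q P f hid _ (hopen _) h
    rintro _ ⟨x, rfl⟩
    exact le_sSup (a := O) hO ⟨x, rfl⟩
  refine ⟨W, (restrict_iff Q P f W).mpr hW, fun W₀ h => le_sSup (show W₀ ∈ {W : Y.Opens | Along P f W.ι} from (restrict_iff Q P f W₀).mp h),
    hrange, fun Y' g hg W' hV hmax => le_antisymm ?_ (hmax _ ?_)⟩
  · have h := hrange _ (W'.ι ≫ g) (hcomp _ _ (hopen _) hg) ((restrict_comp_iff Q P f g W').mp hV)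
    intro x hx
    exact h ⟨⟨x, hx⟩, Scheme.Hom.comp_apply _ _ _⟩
  · rw [restrict_comp_iff Q P f g]
    have := along_comp Q P f hid (g.resLE W (g ⁻¹ᵁ W) le_rfl) (hres _ _ _ _ hg) hW
    rwa [Scheme.Hom.resLE_comp_ι] at this

end Groth.Agent.TargetLocal
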